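import Mathlib

/-!
Duality in a finite group `P` in which all commutators lie in `{1, c}`, with `c` central of order 2,
and whose centre is `{1, c}` (e.g. an extraspecial 2-group).  For `c ∈ Y ≤ P` we get
`|Y| * |C_P(Y)| = 2 * |P|`, proved by orthogonality of the characters `q ↦ ±1`.
-/

set_option autoImplicit false

namespace Cfsg.Agent.Lib.LargeExtra.Duality

open scoped BigOperators

variable {P : Type*} [Group P]

/-- The sign of the pair `(a, b)`: `1` if they commute, `-1` otherwise. -/
noncomputable def sgn (a b : P) : ℤ := by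
  classical exact if a * b = b * a then 1 else -1

/-- The standing hypotheses on `P` and `c`. -/
structure Setting (P : Type*) [Group P] (c : P) : Prop where
  c_ne : c ≠ 1
  c_sq : c * c = 1
  c_central : ∀ a : P, a * c = c * a
  comm : ∀ a b : P, a * b * a⁻¹ * b⁻¹ = 1 ∨ a * b * a⁻¹ * b⁻¹ = c
  rad : ∀ a : P, (∀ b : P, a * b = b * a) → a = 1 ∨ a = c

lemma sgn_eq_one_iff (a b : P) : sgn a b = 1 ↔ a * b = b * a := by
  classical
  unfold sgn
  split_ifs with h <;> simp [h]

lemma sgn_of_comm {a b : P} (h : a * b = b * a) : sgn a b = 1 := (sgn_eq_one_iff a b).2 h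

lemma sgn_of_not_comm {a b : P} (h : a * b ≠ b * a) : sgn a b = -1 := by
  classical
  unfold sgn
  simp [h]

variable {c : P}

lemma comm_eq_one_iff (a b : P) : a * b * a⁻¹ * b⁻¹ = 1 ↔ a * b = b * a := by
  constructor
  · intro h
    have : a * b * a⁻¹ = b := by
      calc a * b * a⁻¹ = a * b * a⁻¹ * b⁻¹ * b := by group
        _ = b := by rw [h, one_mul]
    calc a * b = a * b * a⁻¹ * a := by group
      _ = b * a := by rw [this]
  · intro h
    rw [h]; group

lemma comm_mul_right (a b₁ b₂ : P) (hc : ∀ x y : P, ∀ w : P,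
      (x * y * x⁻¹ * y⁻¹) * w = w * (x * y * x⁻¹ * y⁻¹)) :
    a * (b₁ * b₂) * a⁻¹ * (b₁ * b₂)⁻¹ = (a * b₁ * a⁻¹ * b₁⁻¹) * (a * b₂ * a⁻¹ * b₂⁻¹) := by
  have h := hc a b₂ b₁⁻¹
  calc a * (b₁ * b₂) * a⁻¹ * (b₁ * b₂)⁻¹
      = (a * b₁ * a⁻¹ * b₁⁻¹) * (b₁ * ((a * b₂ * a⁻¹ * b₂⁻¹) * b₁⁻¹)) := by group
    _ = (a * b₁ * a⁻¹ * b₁⁻¹) * (b₁ * (b₁⁻¹ * (a * b₂ * a⁻¹ * b₂⁻¹))) := by rw [h]
    _ = (a * b₁ * a⁻¹ * b₁⁻¹) * (a * b₂ * a⁻¹ * b₂⁻¹) := by group

lemma Setting.comm_central (hS : Setting P c) (x y w : P) :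
    (x * y * x⁻¹ * y⁻¹) * w = w * (x * y * x⁻¹ * y⁻¹) := by
  rcases hS.comm x y with h | h
  · rw [h]; simp
  · rw [h]; exact (hS.c_central w).symm

lemma Setting.sgn_mul_right (hS : Setting P c) (a b₁ b₂ : P) :
    sgn a (b₁ * b₂) = sgn a b₁ * sgn a b₂ := by
  have key := comm_mul_right a b₁ b₂ hS.comm_central
  rcases hS.comm a b₁ with h₁ | h₁ <;> rcases hS.comm a b₂ with h₂ | h₂
  · rw [h₁, h₂, one_mul] at key
    rw [sgn_of_comm ((comm_eq_one_iff _ _).1 h₁), sgn_of_comm ((comm_eq_one_iff _ _).1 h₂),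
      sgn_of_comm ((comm_eq_one_iff _ _).1 key)]; norm_num
  · rw [h₁, h₂, one_mul] at key
    have hne : a * b₂ ≠ b₂ * a := by
      intro hh
      exact hS.c_ne (h₂.symm.trans ((comm_eq_one_iff _ _).2 hh))
    have hne' : a * (b₁ * b₂) ≠ (b₁ * b₂) * a := by
      intro hh
      exact hS.c_ne (key.symm.trans ((comm_eq_one_iff _ _).2 hh))
    rw [sgn_of_comm ((comm_eq_one_iff _ _).1 h₁), sgn_of_not_comm hne, sgn_of_not_comm hne']; norm_num
  · rw [h₁, h₂, mul_one] at key
    have hne : a * b₁ ≠ b₁ * a := by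
      intro hh
      exact hS.c_ne (h₁.symm.trans ((comm_eq_one_iff _ _).2 hh))
    have hne' : a * (b₁ * b₂) ≠ (b₁ * b₂) * a := by
      intro hh
      exact hS.c_ne (key.symm.trans ((comm_eq_one_iff _ _).2 hh))
    rw [sgn_of_comm ((comm_eq_one_iff _ _).1 h₂), sgn_of_not_comm hne, sgn_of_not_comm hne']; norm_num
  · rw [h₁, h₂, hS.c_sq] at key
    have hne₁ : a * b₁ ≠ b₁ * a := by
      intro hh
      exact hS.c_ne (h₁.symm.trans ((comm_eq_one_iff _ _).2 hh))
    have hne₂ : a * b₂ ≠ b₂ * a := by
      intro hh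
      exact hS.c_ne (h₂.symm.trans ((comm_eq_one_iff _ _).2 hh))
    rw [sgn_of_comm ((comm_eq_one_iff _ _).1 key), sgn_of_not_comm hne₁, sgn_of_not_comm hne₂]; norm_num

lemma sgn_symm (a b : P) : sgn a b = sgn b a := by
  by_cases h : a * b = b * a
  · rw [sgn_of_comm h, sgn_of_comm h.symm]
  · rw [sgn_of_not_comm h, sgn_of_not_comm (fun h' => h h'.symm)]

lemma Setting.sgn_mul_left (hS : Setting P c) (a₁ a₂ b : P) :
    sgn (a₁ * a₂) b = sgn a₁ b * sgn a₂ b := by
  rw [sgn_symm, hS.sgn_mul_right, sgn_symm b a₁, sgn_symm b a₂]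

/-- Orthogonality: the sum of a `±1`-valued multiplicative function on a finite group. -/
lemma sum_char {A : Type*} [Group A] [Fintype A] (f : A → ℤ) (hf : ∀ a b, f (a * b) = f a * f b)
    {a : A} (ha : f a = -1) : ∑ y, f y = 0 := by
  have h : ∑ y, f y = ∑ y, f (a * y) :=
    (Fintype.sum_equiv (Equiv.mulLeft a) (fun y => f (a * y)) f (fun y => rfl)).symm
  have h2 : ∑ y, f (a * y) = - ∑ y, f y := by
    rw [← Finset.sum_neg_distrib]
    exact Finset.sum_congr rfl (fun y _ => by rw [hf, ha]; ring)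
  linarith [h.trans h2]

theorem Setting.card_mul_card_centralizer [Finite P] (hS : Setting P c) (Y : Subgroup P)
    (hcY : c ∈ Y) :
    Nat.card Y * Nat.card (Subgroup.centralizer (Y : Set P)) = 2 * Nat.card P := by
  classical
  letI : Fintype P := Fintype.ofFinite P
  -- double sum
  have hdouble : ∑ y : Y, ∑ q : P, sgn q (y : P) = ∑ q : P, ∑ y : Y, sgn q (y : P) :=
    Finset.sum_comm
  -- inner sum over `q`
  have h1 : ∀ y : Y, ∑ q : P, sgn q (y : P) =
      if ((y : P) = 1 ∨ (y : P) = c) then (Fintype.card P : ℤ) else 0 := by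
    intro y
    split_ifs with hy
    · have hcomm : ∀ q : P, q * (y : P) = (y : P) * q := by
        intro q
        rcases hy with hy | hy
        · simp [hy]
        · rw [hy]; exact hS.c_central q
      have : ∀ q : P, sgn q (y : P) = 1 := fun q => sgn_of_comm (hcomm q)
      simp [this]
    · have hex : ∃ b : P, ¬ ((y : P) * b = b * (y : P)) := by
        by_contra hcon
        push Not at hcon
        exact hy (hS.rad _ hcon)
      obtain ⟨b, hb⟩ := hex
      exact sum_char (fun q => sgn q (y : P)) (fun a b => hS.sgn_mul_left a b _)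
        (a := b) (sgn_of_not_comm (fun h => hb h.symm))
  -- inner sum over `y`
  have h2 : ∀ q : P, ∑ y : Y, sgn q (y : P) =
      if q ∈ Subgroup.centralizer (Y : Set P) then (Fintype.card Y : ℤ) else 0 := by
    intro q
    split_ifs with hq
    · have : ∀ y : Y, sgn q (y : P) = 1 := by
        intro y
        apply sgn_of_comm
        exact (Subgroup.mem_centralizer_iff.1 hq y y.2).symm
      simp [this]
    · have hex : ∃ b : Y, ¬ (q * (b : P) = (b : P) * q) := by
        by_contra hcon
        push Not at hcon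
        apply hq
        rw [Subgroup.mem_centralizer_iff]
        intro h hh
        exact (hcon ⟨h, hh⟩).symm
      obtain ⟨b, hb⟩ := hex
      exact sum_char (fun y : Y => sgn q (y : P)) (fun a b => by
        simpa using hS.sgn_mul_right q a b) (a := b) (sgn_of_not_comm hb)
  have hL : ∑ y : Y, ∑ q : P, sgn q (y : P) = 2 * (Fintype.card P : ℤ) := by
    simp_rw [h1]
    rw [Finset.sum_ite, Finset.sum_const_zero, add_zero, Finset.sum_const, nsmul_eq_mul]
    have hcard : (Finset.univ.filter fun y : Y => (y : P) = 1 ∨ (y : P) = c).card = 2 := by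
      have : (Finset.univ.filter fun y : Y => (y : P) = 1 ∨ (y : P) = c) =
          {(1 : Y), ⟨c, hcY⟩} := by
        ext y
        simp only [Finset.mem_filter, Finset.mem_univ, true_and, Finset.mem_insert,
          Finset.mem_singleton]
        constructor
        · rintro (h | h)
          · exact Or.inl (Subtype.ext h)
          · exact Or.inr (Subtype.ext h)
        · rintro (h | h)
          · exact Or.inl (congrArg Subtype.val h)
          · exact Or.inr (congrArg Subtype.val h)
      rw [this, Finset.card_pair]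
      intro h
      exact hS.c_ne (congrArg Subtype.val h).symm
    rw [hcard]; norm_num
  have hR : ∑ q : P, ∑ y : Y, sgn q (y : P) =
      (Nat.card (Subgroup.centralizer (Y : Set P)) : ℤ) * (Fintype.card Y : ℤ) := by
    simp_rw [h2]
    rw [Finset.sum_ite, Finset.sum_const_zero, add_zero, Finset.sum_const, nsmul_eq_mul]
    have : (Finset.univ.filter fun q : P => q ∈ Subgroup.centralizer (Y : Set P)).card
        = Nat.card (Subgroup.centralizer (Y : Set P)) := by
      rw [Nat.card_eq_fintype_card, Fintype.card_subtype]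
    rw [this]
  have := hdouble
  rw [hL, hR] at this
  have h3 : ((Nat.card (Subgroup.centralizer (Y : Set P)) * Fintype.card Y : ℕ) : ℤ)
      = ((2 * Fintype.card P : ℕ) : ℤ) := by
    push_cast; linarith
  have h4 := Int.ofNat.inj h3
  rw [Nat.card_eq_fintype_card (α := Y), Nat.card_eq_fintype_card (α := P), mul_comm]
  exact h4

/-- **Duality**: if `c ∈ Y` and `x ∉ Y`, some element commutes with `Y` but not with `x`. -/
theorem Setting.exists_commute_not_commute [Finite P] (hS : Setting P c) (Y : Subgroup P)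
    (hcY : c ∈ Y) {x : P} (hx : x ∉ Y) :
    ∃ q : P, (∀ y ∈ Y, q * y = y * q) ∧ q * x ≠ x * q := by
  classical
  by_contra hcon
  push Not at hcon
  -- `Y₁ = Y ⊔ zpowers x` has the same centraliser as `Y`, so the same order, contradiction
  set Y₁ : Subgroup P := Y ⊔ Subgroup.zpowers x with hY₁
  have hle : Y ≤ Y₁ := le_sup_left
  have hcen : Subgroup.centralizer (Y : Set P) ≤ Subgroup.centralizer (Y₁ : Set P) := by
    intro q hq
    rw [Subgroup.mem_centralizer_iff] at hq ⊢
    have hq' : ∀ y ∈ Y, q * y = y * q := fun y hy => (hq y hy).symm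
    have hqx : q * x = x * q := hcon q hq'
    have : Y₁ ≤ Subgroup.centralizer ({q} : Set P) := by
      apply sup_le
      · intro y hy
        rw [Subgroup.mem_centralizer_iff]
        intro h hh
        rw [Set.mem_singleton_iff] at hh
        rw [hh]
        exact hq' y hy
      · rw [Subgroup.zpowers_le, Subgroup.mem_centralizer_iff]
        intro h hh
        rw [Set.mem_singleton_iff] at hh
        rw [hh]
        exact hqx
    intro h hh
    have := this hh
    rw [Subgroup.mem_centralizer_iff] at this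
    exact (this q rfl).symm
  have hcen' : Subgroup.centralizer (Y₁ : Set P) ≤ Subgroup.centralizer (Y : Set P) :=
    Subgroup.centralizer_le (by exact_mod_cast hle)
  have heq : Subgroup.centralizer (Y : Set P) = Subgroup.centralizer (Y₁ : Set P) :=
    le_antisymm hcen hcen'
  have h1 := hS.card_mul_card_centralizer Y hcY
  have h2 := hS.card_mul_card_centralizer Y₁ (hle hcY)
  rw [← heq] at h2
  have hpos : 0 < Nat.card (Subgroup.centralizer (Y : Set P)) := Nat.card_pos
  have hcard : Nat.card Y = Nat.card Y₁ := by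
    have := h1.trans h2.symm
    exact Nat.eq_of_mul_eq_mul_right hpos this
  have hYY : Y = Y₁ := Subgroup.eq_of_le_of_card_ge hle (le_of_eq hcard.symm)
  apply hx
  rw [hYY]
  exact (le_sup_right : Subgroup.zpowers x ≤ Y₁) (Subgroup.mem_zpowers x)

end Cfsg.Agent.Lib.LargeExtra.Duality
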