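import Mathlib
import Cfsg.Prelude.Def_Transfer
import Cfsg.Prelude.Def_Solvable
import Cfsg.Agent.Lib.LargeExtra.Duality

/-!
Basic facts on the "large extraspecial" setting: `Q x = O₂(C_G(x))`, `Q z` extraspecial.
-/

set_option autoImplicit false

namespace Cfsg.Agent.Lib.LargeExtra.Basic

variable {G : Type*} [Group G]

/-- `O₂(C_G(x))` as a subgroup of `G`. -/
def QQ (x : G) : Subgroup G :=
  (Cfsg.pCore 2 ↥(Subgroup.centralizer ({x} : Set G))).map (Subgroup.centralizer ({x} : Set G)).subtype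

lemma pCore_map_le {A B : Type*} [Group A] [Group B] (e : A ≃* B) :
    (Cfsg.pCore 2 A).map e.toMonoidHom ≤ Cfsg.pCore 2 B := by
  rw [Subgroup.map_le_iff_le_comap]
  unfold Cfsg.pCore
  apply sSup_le
  rintro N ⟨hN, hp⟩
  rw [← Subgroup.map_le_iff_le_comap]
  apply le_sSup
  refine ⟨?_, ?_⟩
  · exact Subgroup.Normal.map hN _ e.surjective
  · exact IsPGroup.map hp _ 

lemma pCore_map_eq {A B : Type*} [Group A] [Group B] (e : A ≃* B) :
    (Cfsg.pCore 2 A).map e.toMonoidHom = Cfsg.pCore 2 B := by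
  apply le_antisymm (pCore_map_le e)
  have := pCore_map_le e.symm
  intro b hb
  refine ⟨e.symm b, this ⟨b, hb, rfl⟩, by simp⟩

/-- Conjugation transports `QQ`. -/
theorem QQ_conj (g x : G) : QQ (g * x * g⁻¹) = (QQ x).map (MulAut.conj g).toMonoidHom := by
  classical
  -- the conjugation equivalence of centralizers
  let C := Subgroup.centralizer ({x} : Set G)
  let C' := Subgroup.centralizer ({g * x * g⁻¹} : Set G)
  have h1 : ∀ a : G, a ∈ C ↔ g * a * g⁻¹ ∈ C' := by
    intro a
    simp only [C, C', Subgroup.mem_centralizer_iff, Set.mem_singleton_iff, forall_eq]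
    constructor
    · intro h
      calc g * x * g⁻¹ * (g * a * g⁻¹) = g * (x * a) * g⁻¹ := by group
        _ = g * (a * x) * g⁻¹ := by rw [h]
        _ = g * a * g⁻¹ * (g * x * g⁻¹) := by group
    · intro h
      have : g * (x * a) * g⁻¹ = g * (a * x) * g⁻¹ := by
        calc g * (x * a) * g⁻¹ = g * x * g⁻¹ * (g * a * g⁻¹) := by group
          _ = g * a * g⁻¹ * (g * x * g⁻¹) := h
          _ = g * (a * x) * g⁻¹ := by group
      have h' := mul_left_cancel (mul_right_cancel this)
      exact h'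
  let e : C ≃* C' :=
    { toFun := fun a => ⟨g * a * g⁻¹, (h1 a).1 a.2⟩
      invFun := fun b => ⟨g⁻¹ * b * g, (h1 _).2 (by
        have : g * (g⁻¹ * (b : G) * g) * g⁻¹ = b := by group
        rw [this]; exact b.2)⟩
      left_inv := fun a => by
        apply Subtype.ext
        change g⁻¹ * (g * (a : G) * g⁻¹) * g = a
        group
      right_inv := fun b => by
        apply Subtype.ext
        change g * (g⁻¹ * (b : G) * g) * g⁻¹ = b
        group
      map_mul' := fun a b => by
        apply Subtype.ext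
        change g * ((a : G) * (b : G)) * g⁻¹ = (g * (a : G) * g⁻¹) * (g * (b : G) * g⁻¹)
        group }
  have he : ∀ a : C, ((e a : C') : G) = g * a * g⁻¹ := fun a => rfl
  unfold QQ
  change (Cfsg.pCore 2 C').map C'.subtype = ((Cfsg.pCore 2 C).map C.subtype).map _
  rw [← pCore_map_eq e]
  ext y
  constructor
  · rintro ⟨_, ⟨a, ha, rfl⟩, rfl⟩
    exact ⟨a, ⟨a, ha, rfl⟩, rfl⟩
  · rintro ⟨_, ⟨a, ha, rfl⟩, rfl⟩
    exact ⟨e a, ⟨a, ha, rfl⟩, rfl⟩

/-- The elementwise version of the setting, inside `G`. -/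
structure SettingAt (u : G) (P : Subgroup G) : Prop where
  mem : u ∈ P
  ne_one : u ≠ 1
  sq : u * u = 1
  central : ∀ a ∈ P, a * u = u * a
  comm : ∀ a ∈ P, ∀ b ∈ P, a * b * a⁻¹ * b⁻¹ = 1 ∨ a * b * a⁻¹ * b⁻¹ = u
  rad : ∀ a ∈ P, (∀ b ∈ P, a * b = b * a) → a = 1 ∨ a = u

lemma SettingAt.toSetting {u : G} {P : Subgroup G} (h : SettingAt u P) :
    Duality.Setting ↥P (⟨u, h.mem⟩ : P) where
  c_ne := fun hh => h.ne_one (congrArg Subtype.val hh)
  c_sq := Subtype.ext h.sq
  c_central := fun a => Subtype.ext (h.central a a.2)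
  comm := fun a b => by
    rcases h.comm a a.2 b b.2 with h' | h'
    · left; exact Subtype.ext (by simpa using h')
    · right; exact Subtype.ext (by simpa using h')
  rad := fun a ha => by
    rcases h.rad a a.2 (fun b hb => congrArg Subtype.val (ha ⟨b, hb⟩)) with h' | h'
    · left; exact Subtype.ext h'
    · right; exact Subtype.ext h'

lemma SettingAt.conj {u : G} {P : Subgroup G} (h : SettingAt u P) (g : G) :
    SettingAt (g * u * g⁻¹) (P.map (MulAut.conj g).toMonoidHom) where
  mem := ⟨u, h.mem, rfl⟩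
  ne_one := by
    intro hh
    apply h.ne_one
    have : u = g⁻¹ * (g * u * g⁻¹) * g := by group
    rw [this, hh]; group
  sq := by
    calc g * u * g⁻¹ * (g * u * g⁻¹) = g * (u * u) * g⁻¹ := by group
      _ = 1 := by rw [h.sq]; group
  central := by
    rintro _ ⟨a, ha, rfl⟩
    have := h.central a ha
    simp only [MulEquiv.toMonoidHom_eq_coe, MonoidHom.coe_coe, MulAut.conj_apply]
    calc g * a * g⁻¹ * (g * u * g⁻¹) = g * (a * u) * g⁻¹ := by group
      _ = g * (u * a) * g⁻¹ := by rw [this]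
      _ = g * u * g⁻¹ * (g * a * g⁻¹) := by group
  comm := by
    rintro _ ⟨a, ha, rfl⟩ _ ⟨b, hb, rfl⟩
    simp only [MulEquiv.toMonoidHom_eq_coe, MonoidHom.coe_coe, MulAut.conj_apply]
    have key : g * a * g⁻¹ * (g * b * g⁻¹) * (g * a * g⁻¹)⁻¹ * (g * b * g⁻¹)⁻¹ =
        g * (a * b * a⁻¹ * b⁻¹) * g⁻¹ := by group
    rw [key]
    rcases h.comm a ha b hb with h' | h'
    · left; rw [h']; group
    · right; rw [h']
  rad := by
    rintro _ ⟨a, ha, rfl⟩ hcomm
    simp only [MulEquiv.toMonoidHom_eq_coe, MonoidHom.coe_coe, MulAut.conj_apply] at hcomm ⊢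
    have : ∀ b ∈ P, a * b = b * a := by
      intro b hb
      have h2 := hcomm _ ⟨b, hb, rfl⟩
      simp only [MonoidHom.coe_coe, MulAut.conj_apply] at h2
      have h3 : g * (a * b) * g⁻¹ = g * (b * a) * g⁻¹ := by
        calc g * (a * b) * g⁻¹ = g * a * g⁻¹ * (g * b * g⁻¹) := by group
          _ = g * b * g⁻¹ * (g * a * g⁻¹) := h2
          _ = g * (b * a) * g⁻¹ := by group
      exact mul_left_cancel (mul_right_cancel h3)
    rcases h.rad a ha this with h' | h'
    · left; rw [h']; group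
    · right; rw [h']

/-- `z` lies in `O₂(C(z))` when `z` is an involution. -/
lemma self_mem_QQ {z : G} (hz : orderOf z = 2) : z ∈ QQ z := by
  classical
  let zz : ↥(Subgroup.centralizer ({z} : Set G)) :=
    ⟨z, by
      rw [Subgroup.mem_centralizer_iff]
      intro h hh
      rw [Set.mem_singleton_iff] at hh
      rw [hh]⟩
  refine ⟨zz, ?_, rfl⟩
  unfold Cfsg.pCore
  apply (le_sSup (a := Subgroup.zpowers zz) _) (Subgroup.mem_zpowers zz)
  refine ⟨?_, ?_⟩
  · -- normal: central
    constructor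
    rintro n ⟨k, rfl⟩ g
    have hcomm : g * zz = zz * g := by
      apply Subtype.ext
      have := g.2
      rw [Subgroup.mem_centralizer_iff] at this
      simpa using (this z rfl).symm
    refine ⟨k, ?_⟩
    have hc : Commute g (zz ^ k) := (show Commute g zz from hcomm).zpow_right k
    change zz ^ k = g * zz ^ k * g⁻¹
    rw [hc.eq]; group
  · -- 2-group
    refine IsPGroup.of_card (n := 1) ?_
    rw [Nat.card_zpowers]
    have : orderOf zz = orderOf z := by
      exact Subgroup.orderOf_mk z _ 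
    rw [this, hz]; norm_num

/-- From the hypotheses on `z`, the setting at `z`. -/
theorem settingAt_of_extraspecial {z : G} (hz : orderOf z = 2)
    (hE : Cfsg.IsExtraspecial 2 ↥(QQ z)) : SettingAt z (QQ z) := by
  classical
  have hmem := self_mem_QQ hz
  have hne : z ≠ 1 := by
    intro h
    rw [h, orderOf_one] at hz
    omega
  have hsq : z * z = 1 := by
    have := pow_orderOf_eq_one z
    rw [hz, pow_two] at this
    exact this
  -- QQ z ≤ centralizer {z}
  have hle : ∀ a ∈ QQ z, a * z = z * a := by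
    rintro _ ⟨a, _, rfl⟩
    have := a.2
    rw [Subgroup.mem_centralizer_iff] at this
    exact (this z rfl).symm
  obtain ⟨⟨_, _, hcomm⟩, hcard⟩ := hE
  let c : ↥(QQ z) := ⟨z, hmem⟩
  have hc_center : c ∈ Subgroup.center ↥(QQ z) := by
    rw [Subgroup.mem_center_iff]
    intro a
    exact Subtype.ext (hle a a.2)
  have hc_ne : c ≠ 1 := fun h => hne (congrArg Subtype.val h)
  -- the centre is {1, c}
  have hcenter : ∀ a ∈ Subgroup.center ↥(QQ z), a = 1 ∨ a = c := by
    intro a ha
    have hfin : Finite ↥(Subgroup.center ↥(QQ z)) := Nat.finite_of_card_ne_zero (by omega)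
    let _ := Fintype.ofFinite ↥(Subgroup.center ↥(QQ z))
    by_contra hcon
    push Not at hcon
    have hsub : ({1, ⟨c, hc_center⟩, ⟨a, ha⟩} : Finset ↥(Subgroup.center ↥(QQ z))).card ≤
        Fintype.card ↥(Subgroup.center ↥(QQ z)) := Finset.card_le_univ _
    rw [Finset.card_insert_of_notMem, Finset.card_pair] at hsub
    · rw [← Nat.card_eq_fintype_card, hcard] at hsub
      omega
    · intro hh
      exact hcon.2 (congrArg Subtype.val hh).symm
    · simp only [Finset.mem_insert, Finset.mem_singleton, not_or]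
      exact ⟨fun hh => hc_ne (congrArg Subtype.val hh).symm,
        fun hh => hcon.1 (congrArg Subtype.val hh).symm⟩
  refine ⟨hmem, hne, hsq, hle, ?_, ?_⟩
  · intro a ha b hb
    have hmem' : (⟨a, ha⟩ : ↥(QQ z)) * ⟨b, hb⟩ * (⟨a, ha⟩ : ↥(QQ z))⁻¹ * (⟨b, hb⟩ : ↥(QQ z))⁻¹ ∈
        Subgroup.center ↥(QQ z) := by
      rw [← hcomm]
      exact Subgroup.commutator_mem_commutator (Subgroup.mem_top _) (Subgroup.mem_top _)
    rcases hcenter _ hmem' with h' | h'
    · left; simpa using congrArg Subtype.val h'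
    · right; simpa using congrArg Subtype.val h'
  · intro a ha hcen
    have : (⟨a, ha⟩ : ↥(QQ z)) ∈ Subgroup.center ↥(QQ z) := by
      rw [Subgroup.mem_center_iff]
      intro b
      exact Subtype.ext (hcen b b.2).symm
    rcases hcenter _ this with h' | h'
    · left; exact congrArg Subtype.val h'
    · right; exact congrArg Subtype.val h'

/-- The setting at any conjugate of `z`. -/
theorem settingAt_conj {z : G} (hz : orderOf z = 2)
    (hE : Cfsg.IsExtraspecial 2 ↥(QQ z)) (g : G) : SettingAt (g * z * g⁻¹) (QQ (g * z * g⁻¹)) := by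
  rw [QQ_conj]
  exact (settingAt_of_extraspecial hz hE).conj g

/-- A non-central element of the core has a commutator equal to `u`. -/
lemma SettingAt.exists_comm_eq {u : G} {P : Subgroup G} (h : SettingAt u P) {v : G} (hv : v ∈ P)
    (hv1 : v ≠ 1) (hvu : v ≠ u) : ∃ q ∈ P, q * v * q⁻¹ = u * v := by
  have : ∃ b ∈ P, ¬ (v * b = b * v) := by
    by_contra hcon
    push Not at hcon
    rcases h.rad v hv hcon with h' | h'
    · exact hv1 h'
    · exact hvu h'
  obtain ⟨q, hq, hne⟩ := this
  refine ⟨q, hq, ?_⟩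
  have hne' : q * v * q⁻¹ * v⁻¹ ≠ 1 := by
    intro hh
    apply hne
    exact ((Duality.comm_eq_one_iff q v).1 hh).symm
  rcases h.comm q hq v hv with h' | h'
  · exact absurd h' hne'
  · calc q * v * q⁻¹ = q * v * q⁻¹ * v⁻¹ * v := by group
      _ = u * v := by rw [h']

/-- Duality inside `P` for a subgroup `Y ≤ P` containing `u`. -/
theorem SettingAt.exists_centralizing [Finite G] {u : G} {P : Subgroup G} (h : SettingAt u P)
    (Y : Subgroup G) (hY : Y ≤ P) (huY : u ∈ Y) {x : G} (hx : x ∈ P) (hxY : x ∉ Y) :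
    ∃ q ∈ P, (∀ y ∈ Y, q * y = y * q) ∧ q * x * q⁻¹ = u * x := by
  classical
  have hS := h.toSetting
  have hc : (⟨u, h.mem⟩ : P) ∈ Y.subgroupOf P := by
    rw [Subgroup.mem_subgroupOf]; exact huY
  have hx' : (⟨x, hx⟩ : P) ∉ Y.subgroupOf P := by
    rw [Subgroup.mem_subgroupOf]; exact hxY
  obtain ⟨q, hq1, hq2⟩ := hS.exists_commute_not_commute (Y.subgroupOf P) hc hx'
  refine ⟨q, q.2, ?_, ?_⟩
  · intro y hy
    have := hq1 ⟨y, hY hy⟩ (by rw [Subgroup.mem_subgroupOf]; exact hy)
    exact congrArg Subtype.val this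
  · have hne : (q : G) * x ≠ x * q := by
      intro hh
      exact hq2 (Subtype.ext hh)
    rcases h.comm q q.2 x hx with h' | h'
    · exact absurd ((Duality.comm_eq_one_iff _ _).1 h') hne
    · calc (q : G) * x * (q : G)⁻¹ = q * x * (q : G)⁻¹ * x⁻¹ * x := by group
        _ = u * x := by rw [h']

end Cfsg.Agent.Lib.LargeExtra.Basic
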