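import Mathlib
import Cfsg.Agent.Lib.LargeExtra.Basic
import Cfsg.Agent.Lib.PGroups.Basic
import Cfsg.Agent.Lib.ThreeT.Dih6
import Cfsg.Prelude.Def_MonsterType

/-!
Two conjugates of the central involution of a large extraspecial subgroup, one inside the subgroup.
-/

set_option autoImplicit false
set_option linter.unusedSectionVars false
set_option linter.unusedVariables false
set_option linter.style.longLine false
set_option linter.unusedSimpArgs false
set_option linter.unnecessarySimpa false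

namespace Cfsg.Agent.Lib.LargeExtra.Pair

open Cfsg.Agent.Lib.LargeExtra.Basic
open scoped commutatorElement

variable {G : Type*} [Group G]

/-- The properties of a large extraspecial subgroup, elementwise. -/
structure LX (u : G) (P : Subgroup G) : Prop extends SettingAt u P where
  sq_mem : ∀ a ∈ P, a * a = 1 ∨ a * a = u
  cent : ∀ x : G, (∀ a ∈ P, x * a = a * x) → x = 1 ∨ x = u
  norm : ∀ x : G, x * u = u * x → ∀ a ∈ P, x * a * x⁻¹ ∈ P

theorem LX.conj {u : G} {P : Subgroup G} (h : LX u P) (g : G) :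
    LX (g * u * g⁻¹) (P.map (MulAut.conj g).toMonoidHom) where
  toSettingAt := h.toSettingAt.conj g
  sq_mem := by
    rintro _ ⟨a, ha, rfl⟩
    simp only [MulEquiv.toMonoidHom_eq_coe, MonoidHom.coe_coe, MulAut.conj_apply]
    have e : g * a * g⁻¹ * (g * a * g⁻¹) = g * (a * a) * g⁻¹ := by group
    rw [e]
    rcases h.sq_mem a ha with h1 | h1
    · left; rw [h1]; group
    · right; rw [h1]
  cent := by
    intro x hx
    have h1 := h.cent (g⁻¹ * x * g) (fun a ha => by
      have h2 := hx (g * a * g⁻¹) ⟨a, ha, by simp⟩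
      have h3 : g⁻¹ * x * g * a = g⁻¹ * (x * (g * a * g⁻¹)) * g := by group
      rw [h3, h2]; group)
    rcases h1 with h1 | h1
    · left
      have : x = g * (g⁻¹ * x * g) * g⁻¹ := by group
      rw [this, h1]; group
    · right
      have : x = g * (g⁻¹ * x * g) * g⁻¹ := by group
      rw [this, h1]
  norm := by
    rintro x hx _ ⟨a, ha, rfl⟩
    simp only [MulEquiv.toMonoidHom_eq_coe, MonoidHom.coe_coe, MulAut.conj_apply]
    have h1 : g⁻¹ * x * g * u = u * (g⁻¹ * x * g) := by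
      have e1 : g⁻¹ * x * g * u = g⁻¹ * (x * (g * u * g⁻¹)) * g := by group
      have e2 : u * (g⁻¹ * x * g) = g⁻¹ * ((g * u * g⁻¹) * x) * g := by group
      rw [e1, e2, hx]
    have h2 := h.norm _ h1 a ha
    refine ⟨_, h2, ?_⟩
    simp only [MonoidHom.coe_coe, MulAut.conj_apply]
    group

theorem lx_of_large [Finite G] {Q : Subgroup G} {z : G} (hQ : Cfsg.IsLargeExtraspecial Q)
    (hz : (Subgroup.center ↥Q).map Q.subtype = Subgroup.zpowers z) (hz2 : orderOf z = 2) : LX z Q := by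
  obtain ⟨hex, hcent, hnorm, -⟩ := hQ
  have hzz : z * z = 1 := by
    have := pow_orderOf_eq_one z
    rwa [hz2, pow_two] at this
  have hz1 : z ≠ 1 := by
    rintro rfl
    simp at hz2
  have hzp : ∀ x, x ∈ Subgroup.zpowers z → x = 1 ∨ x = z := by
    rintro x ⟨k, rfl⟩
    have h2z : z ^ (2 : ℤ) = 1 := by
      rw [zpow_ofNat, pow_two, hzz]
    rcases Int.emod_two_eq_zero_or_one k with h | h
    · left
      simp only
      rw [← Int.emod_add_mul_ediv k 2, h, zero_add, zpow_mul, h2z, one_zpow]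
    · right
      simp only
      rw [← Int.emod_add_mul_ediv k 2, h, zpow_add, zpow_mul, h2z, one_zpow, zpow_one, mul_one]
  have hzmem : z ∈ (Subgroup.center ↥Q).map Q.subtype := by
    rw [hz]; exact Subgroup.mem_zpowers z
  obtain ⟨zz, hzzc, hzze⟩ := hzmem
  have hzQ : z ∈ Q := by rw [← hzze]; exact zz.2
  have hcenter : ∀ a : ↥Q, a ∈ Subgroup.center ↥Q → (a : G) = 1 ∨ (a : G) = z := by
    intro a ha
    exact hzp _ (by rw [← hz]; exact ⟨a, ha, rfl⟩)
  have hcentral : ∀ a ∈ Q, a * z = z * a := by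
    intro a ha
    have := Subgroup.mem_center_iff.1 hzzc ⟨a, ha⟩
    have h2 := congrArg Subtype.val this
    simp only [Subgroup.coe_mul] at h2
    have h3 : (zz : G) = z := hzze
    rw [h3] at h2
    exact h2
  have hP2 : IsPGroup 2 ↥Q := hex.1.1
  have hF : Fact (Nat.Prime 2) := ⟨Nat.prime_two⟩
  refine ⟨⟨hzQ, hz1, hzz, hcentral, ?_, ?_⟩, ?_, ?_, ?_⟩
  · intro a ha b hb
    have hmem : (⟨a, ha⟩ : ↥Q) * ⟨b, hb⟩ * (⟨a, ha⟩ : ↥Q)⁻¹ * (⟨b, hb⟩ : ↥Q)⁻¹ ∈ Subgroup.center ↥Q := by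
      rw [← hex.1.2.2]
      exact Subgroup.commutator_mem_commutator (Subgroup.mem_top _) (Subgroup.mem_top _)
    simpa using hcenter _ hmem
  · intro a ha hc
    apply hcenter ⟨a, ha⟩
    rw [Subgroup.mem_center_iff]
    intro b
    exact Subtype.ext (hc b b.2).symm
  · intro a ha
    have h1 := Cfsg.Agent.Lib.PGroups.Basic.pow_mem_frattini hP2 (⟨a, ha⟩ : ↥Q)
    rw [hex.1.2.1] at h1
    have h2 := hcenter _ h1
    simpa [pow_two] using h2
  · intro x hx
    have h1 : x ∈ Subgroup.centralizer (Q : Set G) := by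
      rw [Subgroup.mem_centralizer_iff]
      intro a ha
      exact (hx a ha).symm
    rw [hcent, hz] at h1
    exact hzp x h1
  · intro x hx a ha
    have h1 : x ∈ Subgroup.centralizer (((Subgroup.center ↥Q).map Q.subtype : Subgroup G) : Set G) := by
      rw [Subgroup.mem_centralizer_iff, hz]
      intro h hh
      obtain ⟨k, rfl⟩ := hh
      exact ((show Commute x z from hx).zpow_right k).eq.symm
    have h2 := hnorm h1
    rw [Subgroup.mem_normalizer_iff] at h2
    exact (h2 a).1 ha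

section pair

variable {Q Q' : Subgroup G} {z y : G}

theorem mem_closure_pair (hz : z * z = 1) (hy : y * y = 1) (hc : z * y = y * z) (x : G) :
    x ∈ Subgroup.closure ({z, y} : Set G) ↔ x = 1 ∨ x = z ∨ x = y ∨ x = z * y := by
  constructor
  · intro h
    have hzi : z⁻¹ = z := inv_eq_of_mul_eq_one_left hz
    have hyi : y⁻¹ = y := inv_eq_of_mul_eq_one_left hy
    have e1 : z * (z * y) = y := by rw [← mul_assoc, hz, one_mul]
    have e2 : y * (z * y) = z := by rw [← mul_assoc, ← hc, mul_assoc, hy, mul_one]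
    have e3 : z * y * z = y := by rw [hc, mul_assoc, hz, mul_one]
    have e4 : z * y * y = z := by rw [mul_assoc, hy, mul_one]
    have e5 : z * y * (z * y) = 1 := by
      rw [← mul_assoc, e3, hy]
    induction h using Subgroup.closure_induction with
    | mem x hx =>
      rcases hx with rfl | rfl
      · exact Or.inr (Or.inl rfl)
      · exact Or.inr (Or.inr (Or.inl rfl))
    | one => exact Or.inl rfl
    | mul a b _ _ ha hb =>
      rcases ha with rfl | rfl | rfl | rfl <;> rcases hb with rfl | rfl | rfl | rfl <;>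
        simp [hz, hy, e1, e2, e3, e4, e5, ← hc]
    | inv a _ ha =>
      rcases ha with rfl | rfl | rfl | rfl
      · simp
      · rw [hzi]; simp
      · rw [hyi]; simp
      · right; right; right
        rw [mul_inv_rev, hzi, hyi, hc]
  · have hz' : z ∈ Subgroup.closure ({z, y} : Set G) := Subgroup.subset_closure (by simp)
    have hy' : y ∈ Subgroup.closure ({z, y} : Set G) := Subgroup.subset_closure (by simp)
    rintro (rfl | rfl | rfl | rfl)
    · exact one_mem _
    · exact hz'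
    · exact hy'
    · exact mul_mem hz' hy'

theorem nil_lemma [Finite G] {P K : Subgroup G} {y : G} {S : Set G} (hP : IsPGroup 2 P) (hK : K ≤ P)
    (hS : S ⊆ P) (hy : ∀ s ∈ P, s * y = y * s)
    (hgen : K ≤ Subgroup.closure (insert y {r | ∃ a ∈ S, ∃ k ∈ K, r = a * k * a⁻¹ * k⁻¹})) :
    K ≤ Subgroup.zpowers y := by
  have hF : Fact (Nat.Prime 2) := ⟨Nat.prime_two⟩
  have hnil : Group.IsNilpotent ↥P := hP.isNilpotent
  obtain ⟨n, hn⟩ := (Subgroup.isNilpotent_iff_lowerCentralSeries P).1 hnil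
  have hle : ∀ i, P.lowerCentralSeries i ≤ P := fun i =>
    Subgroup.lowerCentralSeries_antitone P (Nat.zero_le i)
  have hcy : ∀ c ∈ P, ∀ e ∈ Subgroup.zpowers y, c * e = e * c := by
    rintro c hc e ⟨m, rfl⟩
    exact ((show Commute c y from hy c hc).zpow_right m).eq
  have key : ∀ i, ∀ k ∈ K, ∃ c ∈ P.lowerCentralSeries i, ∃ e ∈ Subgroup.zpowers y, k = c * e := by
    intro i
    induction i with
    | zero =>
      intro k hk
      exact ⟨k, hK hk, 1, one_mem _, by simp⟩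
    | succ i ih =>
      intro k hk
      have hk' := hgen hk
      clear hk
      induction hk' using Subgroup.closure_induction with
      | mem r hr =>
        rcases hr with rfl | ⟨a, ha, k', hk', rfl⟩
        · exact ⟨1, one_mem _, r, Subgroup.mem_zpowers _, by simp⟩
        · obtain ⟨c, hc, e, he, rfl⟩ := ih k' hk'
          have hea : a * e = e * a := hcy a (hS ha) e he
          have e1 : a * (c * e) * a⁻¹ * (c * e)⁻¹ = a * c * a⁻¹ * c⁻¹ := by
            calc a * (c * e) * a⁻¹ * (c * e)⁻¹ = a * c * (e * a⁻¹ * e⁻¹) * c⁻¹ := by group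
              _ = a * c * a⁻¹ * c⁻¹ := by
                have : e * a⁻¹ * e⁻¹ = a⁻¹ := by
                  have h3 : a⁻¹ * e = e * a⁻¹ := (show Commute a e from hea).inv_left.eq
                  rw [← h3]; group
                rw [this]
          have h4 : ⁅c, a⁆ ∈ ⁅P.lowerCentralSeries i, P⁆ :=
            Subgroup.commutator_mem_commutator hc (hS ha)
          have h5 := inv_mem h4
          have e2 : ⁅c, a⁆⁻¹ = a * c * a⁻¹ * c⁻¹ := by
            rw [commutatorElement_def]; group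
          rw [e2] at h5
          exact ⟨_, h5, 1, one_mem _, by rw [e1, mul_one]⟩
      | one => exact ⟨1, one_mem _, 1, one_mem _, by simp⟩
      | mul a b _ _ ha hb =>
        obtain ⟨c₁, hc₁, e₁, he₁, rfl⟩ := ha
        obtain ⟨c₂, hc₂, e₂, he₂, rfl⟩ := hb
        refine ⟨c₁ * c₂, mul_mem hc₁ hc₂, e₁ * e₂, mul_mem he₁ he₂, ?_⟩
        have h6 := hcy c₂ (hle _ hc₂) e₁ he₁
        calc c₁ * e₁ * (c₂ * e₂) = c₁ * (e₁ * c₂) * e₂ := by group
          _ = c₁ * (c₂ * e₁) * e₂ := by rw [h6]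
          _ = _ := by group
      | inv a _ ha =>
        obtain ⟨c, hc, e, he, rfl⟩ := ha
        refine ⟨c⁻¹, inv_mem hc, e⁻¹, inv_mem he, ?_⟩
        have h6 := hcy c⁻¹ (hle _ (inv_mem hc)) e⁻¹ (inv_mem he)
        rw [mul_inv_rev, h6]
  intro k hk
  obtain ⟨c, hc, e, he, rfl⟩ := key n k hk
  rw [hn, Subgroup.mem_bot] at hc
  rw [hc, one_mul]
  exact he

theorem index_two_of {P B₀ : Subgroup G} {x : G} (hxP : x ∈ P) (hx : x ∉ B₀)
    (h : ∀ q ∈ P, q ∉ B₀ → x⁻¹ * q ∈ B₀) : (B₀.subgroupOf P).index = 2 := by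
  rw [Subgroup.index_eq_two_iff_exists_notMem_and']
  refine ⟨(⟨x, hxP⟩ : ↥P)⁻¹, ?_, fun b => ?_⟩
  · intro hh
    rw [Subgroup.mem_subgroupOf] at hh
    exact hx (by simpa using hh)
  · by_cases hb : (b : G) ∈ B₀
    · exact Or.inr (Subgroup.mem_subgroupOf.2 hb)
    · left
      rw [Subgroup.mem_subgroupOf]
      simpa using h b b.2 hb

theorem card_of_index_two {P B₀ : Subgroup G} (hle : B₀ ≤ P) (h : (B₀.subgroupOf P).index = 2) :
    Nat.card B₀ * 2 = Nat.card P := by
  have h1 := Subgroup.card_mul_index (B₀.subgroupOf P)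
  rw [h] at h1
  rw [← h1, Nat.card_congr (Subgroup.subgroupOfEquivOfLe hle).toEquiv]


/-- An `LX` subgroup is a 2-group. -/
theorem LX.isPGroup {u : G} {P : Subgroup G} (h : LX u P) : IsPGroup 2 ↥P := by
  intro a
  refine ⟨2, ?_⟩
  apply Subtype.ext
  have h1 : (a : G) ^ 2 ^ 2 = ((a : G) * a) * ((a : G) * a) := by
    rw [show 2 ^ 2 = 4 from rfl]
    simp only [pow_succ, pow_zero, one_mul, mul_assoc]
  show (a : G) ^ 2 ^ 2 = 1
  rw [h1]
  rcases h.sq_mem a a.2 with h2 | h2 <;> rw [h2]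
  · simp
  · exact h.sq

theorem LX.inv_comm {u : G} {P : Subgroup G} (h : LX u P) {a b : G} (ha : a ∈ P) (hb : b ∈ P)
    (hab : a * b * a⁻¹ * b⁻¹ = u) : b * a * b⁻¹ * a⁻¹ = u := by
  have h1 : b * a * b⁻¹ * a⁻¹ = (a * b * a⁻¹ * b⁻¹)⁻¹ := by group
  rw [h1, hab]
  exact inv_eq_of_mul_eq_one_left h.sq

/-- The elementwise form of `exists_comm_eq`. -/
theorem LX.exists_comm {u : G} {P : Subgroup G} (h : LX u P) {v : G} (hv : v ∈ P) (hv1 : v ≠ 1)
    (hvu : v ≠ u) : ∃ q ∈ P, q * v * q⁻¹ = u * v := h.toSettingAt.exists_comm_eq hv hv1 hvu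

variable [Finite G]

/-- The key lemma: `z` acts on `Q'` with `[z, x] = y` for some `x`. -/
theorem exists_x (hQ : LX z Q) (hQ' : LX y Q') (hy : y ∈ Q) (hne : y ≠ z)
    (hcard : ∃ a ∈ Q, a * y = y * a ∧ a ≠ 1 ∧ a ≠ z ∧ a ≠ y ∧ a ≠ z * y) :
    ∃ x ∈ Q', z * x * z⁻¹ * x⁻¹ = y := by
  classical
  have hzz := hQ.sq
  have hyy := hQ'.sq
  have hz1 := hQ.ne_one
  have hy1 := hQ'.ne_one
  have hzy : z * y = y * z := (hQ.central y hy).symm
  by_cases hzQ' : z ∈ Q'
  · obtain ⟨q, hq, hqz⟩ := hQ'.exists_comm hzQ' hz1 hne.symm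
    refine ⟨q, hq, ?_⟩
    have h1 : q * z * q⁻¹ * z⁻¹ = y := by rw [hqz]; group
    exact hQ'.inv_comm hq hzQ' h1
  by_contra hno
  push Not at hno
  -- (i) the intersection
  have hVmem := mem_closure_pair hzz hyy hzy
  have hE : ∀ e ∈ Q, e ∈ Q' → e = 1 ∨ e = y := by
    intro e heQ heQ'
    by_contra hcon
    push Not at hcon
    have hev : e ∉ Subgroup.closure ({z, y} : Set G) := by
      rw [hVmem]
      rintro (h1 | h1 | h1 | h1)
      · exact hcon.1 h1
      · exact hzQ' (h1 ▸ heQ')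
      · exact hcon.2 h1
      · apply hzQ'
        have : z = e * y⁻¹ := by rw [h1]; group
        rw [this]
        exact mul_mem heQ' (inv_mem hQ'.mem)
    have hVQ : Subgroup.closure ({z, y} : Set G) ≤ Q := by
      rw [Subgroup.closure_le]
      rintro _ (rfl | rfl)
      · exact hQ.mem
      · exact hy
    obtain ⟨q, hq, hq1, hq2⟩ := hQ.toSettingAt.exists_centralizing _ hVQ
      (Subgroup.subset_closure (by simp)) heQ hev
    have hqy : q * y = y * q := hq1 y (Subgroup.subset_closure (by simp))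
    have h1 := hQ'.norm q hqy e heQ'
    rw [hq2] at h1
    apply hzQ'
    have : z = z * e * e⁻¹ := by group
    rw [this]
    exact mul_mem h1 (inv_mem heQ')
  -- (ii)
  have hAB : ∀ a ∈ Q, a * y = y * a → ∀ b ∈ Q', b * z = z * b →
      a * b * a⁻¹ * b⁻¹ = 1 ∨ a * b * a⁻¹ * b⁻¹ = y := by
    intro a ha hay b hb hbz
    apply hE
    · have h1 := hQ.norm b hbz a⁻¹ (inv_mem ha)
      have e : a * b * a⁻¹ * b⁻¹ = a * (b * a⁻¹ * b⁻¹) := by group
      rw [e]
      exact mul_mem ha h1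
    · have h1 := hQ'.norm a hay b hb
      exact mul_mem h1 (inv_mem hb)
  have hzyc : z * y = y * z := hzy
  -- the subgroup `K`
  set K : Subgroup G := Subgroup.closure (insert y {r | ∃ q ∈ Q', r = z * q * z⁻¹ * q⁻¹}) with hK
  have hKQ' : K ≤ Q' := by
    rw [hK, Subgroup.closure_le]
    rintro r (rfl | ⟨q, hq, rfl⟩)
    · exact hQ'.mem
    · exact mul_mem (hQ'.norm z hzy q hq) (inv_mem hq)
  have hyK : y ∈ K := Subgroup.subset_closure (by simp)
  have hzK : ∀ q ∈ Q', z * q * z⁻¹ * q⁻¹ ∈ K := fun q hq => Subgroup.subset_closure (Or.inr ⟨q, hq, rfl⟩)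
  have hzi : z⁻¹ = z := inv_eq_of_mul_eq_one_left hzz
  -- (v)-(vii)
  have hcomm_eps : ∀ a ∈ Q', ∀ b ∈ Q', a * b = b * a ∨ a * b * a⁻¹ = y * b := by
    intro a ha b hb
    rcases hQ'.comm a ha b hb with h1 | h1
    · left
      exact (Cfsg.Agent.Lib.LargeExtra.Duality.comm_eq_one_iff a b).1 h1
    · right
      calc a * b * a⁻¹ = a * b * a⁻¹ * b⁻¹ * b := by group
        _ = y * b := by rw [h1]
  have hcy : ∀ a ∈ Q', a * y = y * a := hQ'.central
  have hKc : ∀ a ∈ Q, a * y = y * a → ∀ q ∈ Q', a * q * a⁻¹ * q⁻¹ ∈ K := by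
    intro a ha hay q hq
    by_contra hc
    have hcQ' : a * q * a⁻¹ * q⁻¹ ∈ Q' := mul_mem (hQ'.norm a hay q hq) (inv_mem hq)
    obtain ⟨p, hp, hpK, hpc⟩ := hQ'.toSettingAt.exists_centralizing K hKQ' hyK hcQ' hc
    -- `p` commutes with `z` modulo `y`
    have htp : ∀ q' ∈ Q', (z * p * z⁻¹ * p⁻¹) * q' = q' * (z * p * z⁻¹ * p⁻¹) := by
      intro q' hq'
      have hq'' : z * q' * z⁻¹ ∈ Q' := hQ'.norm z hzy q' hq'
      have hr := hpK _ (hzK _ hq'')
      have hr' : z * (z * q' * z⁻¹) * z⁻¹ * (z * q' * z⁻¹)⁻¹ = q' * (z * q' * z⁻¹)⁻¹ := by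
        have : z * (z * q' * z⁻¹) * z⁻¹ = (z * z) * q' * (z⁻¹ * z⁻¹) := by group
        rw [this, hzz, hzi, hzz]; group
      rw [hr'] at hr
      have e4 : z⁻¹ * q' * z = z * q' * z⁻¹ := by rw [hzi]
      have e4' : z * (z * q' * z⁻¹) * z⁻¹ = q' := by
        have : z * (z * q' * z⁻¹) * z⁻¹ = (z * z) * q' * (z⁻¹ * z⁻¹) := by group
        rw [this, hzz, hzi, hzz]; group
      have key : ∀ ε : G, ε * ε = 1 → z * ε = ε * z → q' * ε = ε * q' → p * ε = ε * p →
          p * q' * p⁻¹ = ε * q' → (z * p * z⁻¹ * p⁻¹) * q' = q' * (z * p * z⁻¹ * p⁻¹) := by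
        intro ε hε hzε hq'ε hpε hpq
        have hr2 : p * (q' * (z * q' * z⁻¹)⁻¹)⁻¹ * p⁻¹ = (q' * (z * q' * z⁻¹)⁻¹)⁻¹ := by
          have h1 : p * (q' * (z * q' * z⁻¹)⁻¹)⁻¹ = (q' * (z * q' * z⁻¹)⁻¹)⁻¹ * p :=
            (show Commute p _ from hr).inv_right.eq
          rw [h1]; group
        have e1 : p * (z * q' * z⁻¹) * p⁻¹ = (z * q' * z⁻¹) * ε := by
          calc p * (z * q' * z⁻¹) * p⁻¹
              = (p * (q' * (z * q' * z⁻¹)⁻¹)⁻¹ * p⁻¹) * (p * q' * p⁻¹) := by group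
            _ = (q' * (z * q' * z⁻¹)⁻¹)⁻¹ * (ε * q') := by rw [hr2, hpq]
            _ = (q' * (z * q' * z⁻¹)⁻¹)⁻¹ * (q' * ε) := by rw [hq'ε]
            _ = (z * q' * z⁻¹) * ε := by group
        have e2 : (z * p * z⁻¹) * q' * (z * p * z⁻¹)⁻¹ = q' * ε := by
          calc (z * p * z⁻¹) * q' * (z * p * z⁻¹)⁻¹ = z * (p * (z⁻¹ * q' * z) * p⁻¹) * z⁻¹ := by group
            _ = z * ((z * q' * z⁻¹) * ε) * z⁻¹ := by rw [e4, e1]
            _ = (z * (z * q' * z⁻¹) * z⁻¹) * (z * ε * z⁻¹) := by group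
            _ = q' * ε := by rw [e4', hzε]; group
        have e3 : p⁻¹ * q' * p = q' * ε := by
          have h1 : q' = ε * (p⁻¹ * q' * p) := by
            have h2 : p⁻¹ * (p * q' * p⁻¹) * p = p⁻¹ * (ε * q') * p := by rw [hpq]
            have h3 : p⁻¹ * ε = ε * p⁻¹ := (show Commute p ε from hpε).inv_left.eq
            calc q' = p⁻¹ * (p * q' * p⁻¹) * p := by group
              _ = p⁻¹ * (ε * q') * p := h2
              _ = (p⁻¹ * ε) * q' * p := by group
              _ = (ε * p⁻¹) * q' * p := by rw [h3]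
              _ = _ := by group
          calc p⁻¹ * q' * p = (ε * ε) * (p⁻¹ * q' * p) := by rw [hε, one_mul]
            _ = ε * (ε * (p⁻¹ * q' * p)) := by group
            _ = ε * q' := by rw [← h1]
            _ = q' * ε := hq'ε.symm
        have e5 : (z * p * z⁻¹) * ε = ε * (z * p * z⁻¹) := by
          have h1 : z⁻¹ * ε = ε * z⁻¹ := (show Commute z ε from hzε).inv_left.eq
          calc (z * p * z⁻¹) * ε = z * p * (z⁻¹ * ε) := by group
            _ = z * (p * ε) * z⁻¹ := by rw [h1]; group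
            _ = z * ε * p * z⁻¹ := by rw [hpε]; group
            _ = ε * (z * p * z⁻¹) := by rw [hzε]; group
        have e6 : (z * p * z⁻¹ * p⁻¹) * q' * (z * p * z⁻¹ * p⁻¹)⁻¹ = q' := by
          calc (z * p * z⁻¹ * p⁻¹) * q' * (z * p * z⁻¹ * p⁻¹)⁻¹
              = (z * p * z⁻¹) * (p⁻¹ * q' * p) * (z * p * z⁻¹)⁻¹ := by group
            _ = (z * p * z⁻¹) * (q' * ε) * (z * p * z⁻¹)⁻¹ := by rw [e3]
            _ = ((z * p * z⁻¹) * q' * (z * p * z⁻¹)⁻¹) * ((z * p * z⁻¹) * ε * (z * p * z⁻¹)⁻¹) := by group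
            _ = (q' * ε) * ε := by
                rw [e2, e5]; group
            _ = q' := by rw [mul_assoc, hε, mul_one]
        calc (z * p * z⁻¹ * p⁻¹) * q' = ((z * p * z⁻¹ * p⁻¹) * q' * (z * p * z⁻¹ * p⁻¹)⁻¹) * (z * p * z⁻¹ * p⁻¹) := by group
          _ = q' * (z * p * z⁻¹ * p⁻¹) := by rw [e6]
      rcases hcomm_eps p hp q' hq' with hc1 | hc1
      · exact key 1 (by simp) (by simp) (by simp) (by simp) (by rw [hc1]; group)
      · exact key y hyy hzy (hcy q' hq') (hcy p hp) hc1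
    have htQ' : z * p * z⁻¹ * p⁻¹ ∈ Q' := mul_mem (hQ'.norm z hzy p hp) (inv_mem hp)
    have ht1 : z * p * z⁻¹ * p⁻¹ = 1 := by
      rcases hQ'.rad _ htQ' (fun b hb => htp b hb) with h1 | h1
      · exact h1
      · exact absurd h1 (hno p hp)
    have hpz : z * p = p * z := by
      have : z * p * z⁻¹ = p := by
        calc z * p * z⁻¹ = (z * p * z⁻¹ * p⁻¹) * p := by group
          _ = p := by rw [ht1, one_mul]
      calc z * p = (z * p * z⁻¹) * z := by group
        _ = p * z := by rw [this]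
    -- `p` commutes with `a` modulo `y`
    have ha' : a⁻¹ ∈ Q := inv_mem ha
    have ha'y : a⁻¹ * y = y * a⁻¹ := (show Commute a y from hay).inv_left.eq
    have hpa : a⁻¹ * p * a = p ∨ a⁻¹ * p * a = y * p := by
      have hc2 := hAB a⁻¹ ha' ha'y p hp hpz.symm
      rcases hc2 with h2 | h2
      · left
        calc a⁻¹ * p * a = (a⁻¹ * p * a⁻¹⁻¹ * p⁻¹) * p := by group
          _ = p := by rw [h2, one_mul]
      · right
        calc a⁻¹ * p * a = (a⁻¹ * p * a⁻¹⁻¹ * p⁻¹) * p := by group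
          _ = y * p := by rw [h2]
    have hyi : y⁻¹ = y := inv_eq_of_mul_eq_one_left hyy
    have hyq : q * y = y * q := hcy q hq
    have hyp : p * y = y * p := hcy p hp
    -- action of `a⁻¹ p a` on `q`
    have haq : a * q * a⁻¹ ∈ Q' := hQ'.norm a hay q hq
    have hpp : (a⁻¹ * p * a) * q * (a⁻¹ * p * a)⁻¹ = p * q * p⁻¹ := by
      rcases hpa with h2 | h2
      · rw [h2]
      · rw [h2]
        calc y * p * q * (y * p)⁻¹ = y * (p * q * p⁻¹) * y⁻¹ := by group
          _ = p * q * p⁻¹ := by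
            have hin : p * q * p⁻¹ ∈ Q' := mul_mem (mul_mem hp hq) (inv_mem hp)
            have := hcy _ hin
            rw [← this]; group
    have hact : p * (a * q * a⁻¹) * p⁻¹ = a * (p * q * p⁻¹) * a⁻¹ := by
      have : a * ((a⁻¹ * p * a) * q * (a⁻¹ * p * a)⁻¹) * a⁻¹ = p * (a * q * a⁻¹) * p⁻¹ := by group
      rw [← this, hpp]
    have hpc' : p * (a * q * a⁻¹ * q⁻¹) * p⁻¹ = a * q * a⁻¹ * q⁻¹ := by
      have hy' : a * y * a⁻¹ = y := by rw [hay]; group
      rcases hcomm_eps p hp q hq with h3 | h3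
      · have h4 : p * q * p⁻¹ = q := by rw [h3]; group
        calc p * (a * q * a⁻¹ * q⁻¹) * p⁻¹ = (p * (a * q * a⁻¹) * p⁻¹) * (p * q * p⁻¹)⁻¹ := by group
          _ = a * q * a⁻¹ * q⁻¹ := by rw [hact, h4]
      · calc p * (a * q * a⁻¹ * q⁻¹) * p⁻¹ = (p * (a * q * a⁻¹) * p⁻¹) * (p * q * p⁻¹)⁻¹ := by group
          _ = a * (y * q) * a⁻¹ * (y * q)⁻¹ := by rw [hact, h3]
          _ = (a * y * a⁻¹) * (a * q * a⁻¹) * q⁻¹ * y⁻¹ := by group
          _ = y * (a * q * a⁻¹ * q⁻¹) * y⁻¹ := by rw [hy']; group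
          _ = a * q * a⁻¹ * q⁻¹ := by
            have := hcy _ hcQ'
            rw [← this]; group
    rw [hpc'] at hpc
    apply hy1
    have : y * (a * q * a⁻¹ * q⁻¹) * (a * q * a⁻¹ * q⁻¹)⁻¹ = y := by group
    rw [← this, ← hpc]; group
  -- the element `a₀`
  obtain ⟨b₀, hb₀Q, hb₀y, hb₀1, hb₀z, hb₀2, hb₀3⟩ := hcard
  have hb₀V : b₀ ∉ Subgroup.closure ({z, y} : Set G) := by
    rw [hVmem]
    rintro (h1 | h1 | h1 | h1)
    · exact hb₀1 h1
    · exact hb₀z h1
    · exact hb₀2 h1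
    · exact hb₀3 h1
  have hVQ : Subgroup.closure ({z, y} : Set G) ≤ Q := by
    rw [Subgroup.closure_le]
    rintro _ (rfl | rfl)
    · exact hQ.mem
    · exact hy
  obtain ⟨a₀, ha₀, ha₀1, ha₀2⟩ := hQ.toSettingAt.exists_centralizing _ hVQ
    (Subgroup.subset_closure (by simp)) hb₀Q hb₀V
  have ha₀y : a₀ * y = y * a₀ := ha₀1 y (Subgroup.subset_closure (by simp))
  -- Apply the nilpotency lemma
  have hNA : (Q ⊓ Subgroup.centralizer ({y} : Set G)) ≤ Subgroup.normalizer (Q' : Set G) := by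
    intro a ha
    rw [Subgroup.mem_normalizer_iff]
    have hay : a * y = y * a := by
      have := Subgroup.mem_centralizer_iff.1 ha.2 y rfl
      exact this.symm
    intro h
    constructor
    · exact hQ'.norm a hay h
    · intro hh
      have h2 := hQ'.norm a⁻¹ (show Commute a y from hay).inv_left.eq _ hh
      have : a⁻¹ * (a * h * a⁻¹) * a⁻¹⁻¹ = h := by group
      rwa [this] at h2
  have hAP : IsPGroup 2 ↥(Q ⊓ Subgroup.centralizer ({y} : Set G)) :=
    hQ.isPGroup.to_le inf_le_left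
  have hPP : IsPGroup 2 ↥((Q ⊓ Subgroup.centralizer ({y} : Set G)) ⊔ Q') :=
    IsPGroup.to_sup_of_normal_right' hAP hQ'.isPGroup hNA
  have hPy : ∀ s ∈ (Q ⊓ Subgroup.centralizer ({y} : Set G)) ⊔ Q', s * y = y * s := by
    intro s hs
    have hle : (Q ⊓ Subgroup.centralizer ({y} : Set G)) ⊔ Q' ≤ Subgroup.centralizer ({y} : Set G) := by
      refine sup_le inf_le_right ?_
      intro b hb
      rw [Subgroup.mem_centralizer_iff]
      rintro _ rfl
      exact (hQ'.central b hb).symm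
    exact (Subgroup.mem_centralizer_iff.1 (hle hs) y rfl).symm
  have hKle : K ≤ Subgroup.zpowers y := by
    refine nil_lemma (P := (Q ⊓ Subgroup.centralizer ({y} : Set G)) ⊔ Q')
      (S := {a | a ∈ Q ∧ a * y = y * a}) hPP (hKQ'.trans le_sup_right) ?_ hPy ?_
    · rintro a ⟨ha, hay⟩
      exact (le_sup_left : _ ≤ (Q ⊓ Subgroup.centralizer ({y} : Set G)) ⊔ Q')
        ⟨ha, Subgroup.mem_centralizer_iff.2 (by rintro _ rfl; exact hay.symm)⟩
    · rw [hK, Subgroup.closure_le]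
      have hyiK : ∀ r, r ∈ insert y {r | ∃ a ∈ {a | a ∈ Q ∧ a * y = y * a}, ∃ k ∈ K, r = a * k * a⁻¹ * k⁻¹} →
          r ∈ Subgroup.closure (insert y {r | ∃ a ∈ {a | a ∈ Q ∧ a * y = y * a}, ∃ k ∈ K, r = a * k * a⁻¹ * k⁻¹}) :=
        fun r hr => Subgroup.subset_closure hr
      have hgen : ∀ a, a ∈ Q → a * y = y * a → ∀ k ∈ K,
          a * k * a⁻¹ * k⁻¹ ∈ Subgroup.closure (insert y {r | ∃ a ∈ {a | a ∈ Q ∧ a * y = y * a}, ∃ k ∈ K, r = a * k * a⁻¹ * k⁻¹}) :=
        fun a ha hay k hk => Subgroup.subset_closure (Or.inr ⟨a, ⟨ha, hay⟩, k, hk, rfl⟩)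
      rintro r (rfl | ⟨qt, hqt, rfl⟩)
      · exact Subgroup.subset_closure (Or.inl rfl)
      · -- the commutator identity
        have hb₀' : b₀⁻¹ * y = y * b₀⁻¹ := (show Commute b₀ y from hb₀y).inv_left.eq
        have ha₀' : a₀⁻¹ * y = y * a₀⁻¹ := (show Commute a₀ y from ha₀y).inv_left.eq
        set q : G := a₀⁻¹ * (b₀⁻¹ * qt * b₀) * a₀ with hq_def
        have hq : q ∈ Q' := by
          have h1 := hQ'.norm b₀⁻¹ hb₀' qt hqt
          have h2 := hQ'.norm a₀⁻¹ ha₀' _ h1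
          have e : a₀⁻¹ * (b₀⁻¹ * qt * b₀⁻¹⁻¹) * a₀⁻¹⁻¹ = q := by rw [hq_def]; group
          rwa [e] at h2
        have hc₁ := hKc b₀ hb₀Q hb₀y q hq
        have hc₂ := hKc a₀ ha₀ ha₀y q hq
        set c₁ : G := b₀ * q * b₀⁻¹ * q⁻¹ with hc₁_def
        set c₂ : G := a₀ * q * a₀⁻¹ * q⁻¹ with hc₂_def
        have hzab : z = a₀ * b₀ * a₀⁻¹ * b₀⁻¹ := by
          have : a₀ * b₀ * a₀⁻¹ * b₀⁻¹ = z * b₀ * b₀⁻¹ := by rw [ha₀2]
          rw [this]; group
        have hzi2 : z⁻¹ = b₀ * a₀ * b₀⁻¹ * a₀⁻¹ := by rw [hzab]; group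
        have hzb : z * (b₀ * a₀) = a₀ * b₀ := by rw [hzab]; group
        have hqt : qt = b₀ * (a₀ * q * a₀⁻¹) * b₀⁻¹ := by rw [hq_def]; group
        have hzq : z * qt * z⁻¹ = a₀ * b₀ * q * b₀⁻¹ * a₀⁻¹ := by
          calc z * qt * z⁻¹ = z * (b₀ * (a₀ * q * a₀⁻¹) * b₀⁻¹) * z⁻¹ := by rw [← hqt]
            _ = (z * (b₀ * a₀)) * q * (z * (b₀ * a₀))⁻¹ := by group
            _ = _ := by rw [hzb]; group
        have hid : z * qt * z⁻¹ * qt⁻¹ = (a₀ * c₁ * a₀⁻¹ * c₁⁻¹) * (c₁ * c₂ * c₁⁻¹ * c₂⁻¹) * (b₀ * c₂ * b₀⁻¹ * c₂⁻¹)⁻¹ := by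
          rw [hzq, hc₁_def, hc₂_def]
          nth_rewrite 1 [hqt]
          group
        rw [hid]
        have hd₁ := hgen a₀ ha₀ ha₀y c₁ hc₁
        have hd₂ := hgen b₀ hb₀Q hb₀y c₂ hc₂
        have hc₁Q' := hKQ' hc₁
        have hc₂Q' := hKQ' hc₂
        have hmid : c₁ * c₂ * c₁⁻¹ * c₂⁻¹ ∈ Subgroup.closure (insert y {r | ∃ a ∈ {a | a ∈ Q ∧ a * y = y * a}, ∃ k ∈ K, r = a * k * a⁻¹ * k⁻¹}) := by
          rcases hQ'.comm c₁ hc₁Q' c₂ hc₂Q' with h3 | h3
          · rw [h3]; exact one_mem _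
          · rw [h3]; exact Subgroup.subset_closure (Or.inl rfl)
        exact mul_mem (mul_mem hd₁ hmid) (inv_mem hd₂)
  -- Conclude
  have hzq : ∀ q ∈ Q', q * z = z * q := by
    intro q hq
    have h1 := hKle (hzK q hq)
    have h2 : z * q * z⁻¹ * q⁻¹ = 1 ∨ z * q * z⁻¹ * q⁻¹ = y := by
      rcases h1 with ⟨k, hk⟩
      have h2z : y ^ (2 : ℤ) = 1 := by
        rw [zpow_ofNat, pow_two, hyy]
      simp only at hk
      rcases Int.emod_two_eq_zero_or_one k with h | h
      · left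
        rw [← hk, ← Int.emod_add_mul_ediv k 2, h, zero_add, zpow_mul, h2z, one_zpow]
      · right
        rw [← hk, ← Int.emod_add_mul_ediv k 2, h, zpow_add, zpow_mul, h2z, one_zpow, zpow_one, mul_one]
    rcases h2 with h2 | h2
    · exact ((Cfsg.Agent.Lib.LargeExtra.Duality.comm_eq_one_iff z q).1 h2).symm
    · exact absurd h2 (hno q hq)
  rcases hQ'.cent z (fun a ha => (hzq a ha).symm) with h | h
  · exact absurd h hz1
  · exact absurd h.symm hne

theorem mem_map_conj {g a : G} {P : Subgroup G} :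
    a ∈ P.map (MulAut.conj g).toMonoidHom ↔ g⁻¹ * a * g ∈ P := by
  constructor
  · rintro ⟨b, hb, rfl⟩
    have : g⁻¹ * ((MulAut.conj g).toMonoidHom b) * g = b := by
      simp only [MulEquiv.toMonoidHom_eq_coe, MonoidHom.coe_coe, MulAut.conj_apply]
      group
    rwa [this]
  · intro h
    refine ⟨_, h, ?_⟩
    simp only [MulEquiv.toMonoidHom_eq_coe, MonoidHom.coe_coe, MulAut.conj_apply]
    group

/-- If `q ∉ P`, then `q` is in the nontrivial coset of `Q ⊓ C(y)`. -/
theorem LX.act {u : G} {P : Subgroup G} (h : LX u P) {a b : G} (ha : a ∈ P) (hb : b ∈ P) :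
    a * b * a⁻¹ = b ∨ a * b * a⁻¹ = u * b := by
  rcases h.comm a ha b hb with h1 | h1
  · left
    calc a * b * a⁻¹ = (a * b * a⁻¹ * b⁻¹) * b := by group
      _ = b := by rw [h1, one_mul]
  · right
    calc a * b * a⁻¹ = (a * b * a⁻¹ * b⁻¹) * b := by group
      _ = u * b := by rw [h1]

theorem LX.coset {u : G} {P : Subgroup G} (h : LX u P) {y t q : G} (hy : y ∈ P) (ht : t ∈ P) (hq : q ∈ P)
    (ht' : t * y = y * t → False) (hq' : q * y = y * q → False) : t⁻¹ * q * y = y * (t⁻¹ * q) := by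
  have e1 : t * y * t⁻¹ = u * y := by
    rcases h.act ht hy with h1 | h1
    · exfalso
      apply ht'
      calc t * y = (t * y * t⁻¹) * t := by group
        _ = y * t := by rw [h1]
    · exact h1
  have e2 : q * y * q⁻¹ = u * y := by
    rcases h.act hq hy with h1 | h1
    · exfalso
      apply hq'
      calc q * y = (q * y * q⁻¹) * q := by group
        _ = y * q := by rw [h1]
    · exact h1
  have e3 : t * y * t⁻¹ = q * y * q⁻¹ := by rw [e1, e2]
  calc t⁻¹ * q * y = t⁻¹ * (q * y * q⁻¹) * q := by group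
    _ = t⁻¹ * (t * y * t⁻¹) * q := by rw [e3]
    _ = y * (t⁻¹ * q) := by group

theorem card_le_four_of_le {H : Subgroup G} {a b c d : G} (h : ∀ x ∈ H, x = a ∨ x = b ∨ x = c ∨ x = d) :
    Nat.card H ≤ 4 := by
  classical
  have h1 : ((H : Subgroup G) : Set G) ⊆ (({a, b, c, d} : Finset G) : Set G) := by
    intro x hx
    simpa using h x hx
  have h2 := Set.ncard_le_ncard h1 (Finset.finite_toSet _)
  rw [Set.ncard_coe_finset] at h2
  have h3 : Nat.card H = ((H : Subgroup G) : Set G).ncard := by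
    rw [← Nat.card_coe_set_eq]; rfl
  rw [h3]
  exact h2.trans Finset.card_le_four

/-- The "other" conjugate of `z` lies in `g Q g⁻¹`, given `|Q| ≥ 32`. -/
theorem z_mem {g : G} (hQ : LX z Q) (hQ' : LX y Q') (hg : g * z * g⁻¹ = y)
    (hQ'def : Q' = Q.map (MulAut.conj g).toMonoidHom) (hy : y ∈ Q) (hne : y ≠ z)
    (hcard : 32 ≤ Nat.card Q) : z ∈ Q' := by
  classical
  have hzz := hQ.sq
  have hyy := hQ'.sq
  have hz1 := hQ.ne_one
  have hy1 := hQ'.ne_one
  have hzy : z * y = y * z := (hQ.central y hy).symm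
  have hzi : z⁻¹ = z := inv_eq_of_mul_eq_one_left hzz
  have hyi : y⁻¹ = y := inv_eq_of_mul_eq_one_left hyy
  obtain ⟨u, hu, huy⟩ := hQ.exists_comm hy hy1 hne
  have huy' : ¬ (u * y = y * u) := by
    intro h
    have : u * y * u⁻¹ = y := by rw [h]; group
    rw [this] at huy
    apply hz1
    have h2 : z * y * y⁻¹ = y * y⁻¹ := by rw [← huy]
    simpa using h2
  -- the subgroups
  set A : Subgroup G := Q ⊓ Subgroup.centralizer ({y} : Set G) with hA
  set B : Subgroup G := Q' ⊓ Subgroup.centralizer ({z} : Set G) with hB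
  have memA : ∀ a, a ∈ A ↔ a ∈ Q ∧ a * y = y * a := by
    intro a
    rw [hA, Subgroup.mem_inf, Subgroup.mem_centralizer_iff]
    simp only [Set.mem_singleton_iff, forall_eq]
    exact and_congr_right (fun _ => eq_comm)
  have memB : ∀ a, a ∈ B ↔ a ∈ Q' ∧ a * z = z * a := by
    intro a
    rw [hB, Subgroup.mem_inf, Subgroup.mem_centralizer_iff]
    simp only [Set.mem_singleton_iff, forall_eq]
    exact and_congr_right (fun _ => eq_comm)
  have hAidx : (A.subgroupOf Q).index = 2 := by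
    apply index_two_of hu
    · rw [memA]; exact fun h => huy' h.2
    · intro q hq hqA
      rw [memA]
      refine ⟨mul_mem (inv_mem hu) hq, ?_⟩
      apply hQ.coset hy hu hq huy'
      intro h
      exact hqA ((memA q).2 ⟨hq, h⟩)
  have hAcard : Nat.card A * 2 = Nat.card Q := card_of_index_two (inf_le_left) hAidx
  have hQ'card : Nat.card Q' = Nat.card Q := by
    rw [hQ'def]
    exact Subgroup.card_map_of_injective (MulAut.conj g).injective
  -- a big element
  have hbig : ∃ a ∈ Q, a * y = y * a ∧ a ≠ 1 ∧ a ≠ z ∧ a ≠ y ∧ a ≠ z * y := by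
    by_contra hcon
    push Not at hcon
    have : Nat.card A ≤ 4 := by
      apply card_le_four_of_le (a := 1) (b := z) (c := y) (d := z * y)
      intro a ha
      obtain ⟨h1, h2⟩ := (memA a).1 ha
      by_contra h3
      push Not at h3
      exact h3.2.2.2 (hcon a h1 h2 h3.1 h3.2.1 h3.2.2.1)
    omega
  obtain ⟨x, hx, hxz⟩ := exists_x hQ hQ' hy hne hbig
  have hxz' : x * z * x⁻¹ = y * z := by
    have h1 : x * z * x⁻¹ * z⁻¹ = (z * x * z⁻¹ * x⁻¹)⁻¹ := by group
    rw [hxz, hyi] at h1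
    calc x * z * x⁻¹ = (x * z * x⁻¹ * z⁻¹) * z := by group
      _ = y * z := by rw [h1]
  have hxB : x ∉ B := by
    rw [memB]
    rintro ⟨-, h⟩
    have : x * z * x⁻¹ = z := by rw [h]; group
    rw [this] at hxz'
    apply hy1
    have h2 : z * z⁻¹ = y * z * z⁻¹ := by rw [← hxz']
    simpa using h2.symm
  -- `ρ`
  have hρz : (u * x) * z * (u * x)⁻¹ = y := by
    calc (u * x) * z * (u * x)⁻¹ = u * (x * z * x⁻¹) * u⁻¹ := by group
      _ = (u * y * u⁻¹) * (u * z * u⁻¹) := by rw [hxz']; group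
      _ = z * y * z := by
        rw [huy, hQ.central u hu]; group
      _ = y := by rw [hzy, mul_assoc, hzz, mul_one]
  have hρy : (u * x) * y * (u * x)⁻¹ = z * y := by
    calc (u * x) * y * (u * x)⁻¹ = u * (x * y * x⁻¹) * u⁻¹ := by group
      _ = u * y * u⁻¹ := by rw [hQ'.central x hx]; group
      _ = z * y := huy
  have hρQ : ∀ a ∈ Q, (u * x) * a * (u * x)⁻¹ ∈ Q' := by
    intro a ha
    rw [hQ'def, mem_map_conj]
    have h1 : (g⁻¹ * (u * x)) * z = z * (g⁻¹ * (u * x)) := by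
      have h2 : (u * x) * z = y * (u * x) := by
        calc (u * x) * z = ((u * x) * z * (u * x)⁻¹) * (u * x) := by group
          _ = y * (u * x) := by rw [hρz]
      have h3 : g⁻¹ * y = z * g⁻¹ := by rw [← hg]; group
      calc (g⁻¹ * (u * x)) * z = g⁻¹ * ((u * x) * z) := by group
        _ = g⁻¹ * (y * (u * x)) := by rw [h2]
        _ = (g⁻¹ * y) * (u * x) := by group
        _ = z * (g⁻¹ * (u * x)) := by rw [h3]; group
    have h4 := hQ.norm _ h1 a ha
    have e : g⁻¹ * ((u * x) * a * (u * x)⁻¹) * g = (g⁻¹ * (u * x)) * a * (g⁻¹ * (u * x))⁻¹ := by group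
    rw [e]; exact h4
  -- Inject `A` into `B`.
  have hρA : ∀ a : A, (u * x) * (a : G) * (u * x)⁻¹ ∈ B := by
    rintro ⟨a, ha⟩
    obtain ⟨h1, h2⟩ := (memA a).1 ha
    rw [memB]
    refine ⟨hρQ a h1, ?_⟩
    have haz : a * z = z * a := hQ.central a h1
    have e1 : ((u * x) * a * (u * x)⁻¹) * y = y * ((u * x) * a * (u * x)⁻¹) := by
      calc ((u * x) * a * (u * x)⁻¹) * y = (u * x) * a * (u * x)⁻¹ * ((u * x) * z * (u * x)⁻¹) := by rw [hρz]
        _ = (u * x) * (a * z) * (u * x)⁻¹ := by group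
        _ = (u * x) * (z * a) * (u * x)⁻¹ := by rw [haz]
        _ = ((u * x) * z * (u * x)⁻¹) * ((u * x) * a * (u * x)⁻¹) := by group
        _ = _ := by rw [hρz]
    have e2 : ((u * x) * a * (u * x)⁻¹) * (z * y) = (z * y) * ((u * x) * a * (u * x)⁻¹) := by
      calc ((u * x) * a * (u * x)⁻¹) * (z * y) = (u * x) * a * (u * x)⁻¹ * ((u * x) * y * (u * x)⁻¹) := by rw [hρy]
        _ = (u * x) * (a * y) * (u * x)⁻¹ := by group
        _ = (u * x) * (y * a) * (u * x)⁻¹ := by rw [h2]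
        _ = ((u * x) * y * (u * x)⁻¹) * ((u * x) * a * (u * x)⁻¹) := by group
        _ = _ := by rw [hρy]
    set w := (u * x) * a * (u * x)⁻¹
    have e3 : w * z = w * ((z * y) * y) := by rw [mul_assoc z y y, hyy, mul_one]
    rw [e3, ← mul_assoc, e2, mul_assoc, mul_assoc, e1]
    calc z * (y * (y * w)) = z * ((y * y) * w) := by group
      _ = z * w := by rw [hyy, one_mul]
  have hcardAB : Nat.card A ≤ Nat.card B := by
    refine Nat.card_le_card_of_injective (fun a : A => (⟨_, hρA a⟩ : B)) ?_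
    intro a b h
    have h2 := congrArg Subtype.val h
    simp only at h2
    exact Subtype.ext (mul_left_cancel (mul_right_cancel h2))
  have hBidx : (B.subgroupOf Q').index = 2 := by
    have h2 := Subgroup.card_mul_index (B.subgroupOf Q')
    rw [Nat.card_congr (Subgroup.subgroupOfEquivOfLe (inf_le_left : B ≤ Q')).toEquiv] at h2
    have hBpos : 0 < Nat.card B := Nat.card_pos
    have h3 : (B.subgroupOf Q').index ≠ 0 := Subgroup.index_ne_zero_of_finite
    have h4 : (B.subgroupOf Q').index ≠ 1 := by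
      intro hh
      rw [Subgroup.index_eq_one] at hh
      have : (⟨x, hx⟩ : Q') ∈ B.subgroupOf Q' := by rw [hh]; trivial
      exact hxB (Subgroup.mem_subgroupOf.1 this)
    have h5 : (B.subgroupOf Q').index ≤ 2 := by
      by_contra hh
      push Not at hh
      have : Nat.card B * 3 ≤ Nat.card B * (B.subgroupOf Q').index := Nat.mul_le_mul_left _ hh
      nlinarith
    omega
  have hcoset : ∀ q ∈ Q', q ∉ B → x⁻¹ * q ∈ B := by
    intro q hq hqB
    have h1 := Subgroup.mul_mem_iff_of_index_two (a := (⟨x, hx⟩ : Q')⁻¹) (b := (⟨q, hq⟩ : Q')) hBidx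
    have h2 : (⟨x, hx⟩ : Q')⁻¹ * ⟨q, hq⟩ ∈ B.subgroupOf Q' := by
      rw [h1]
      constructor
      · intro h3
        exfalso
        apply hxB
        have := Subgroup.mem_subgroupOf.1 h3
        simpa using this
      · intro h3
        exact absurd (Subgroup.mem_subgroupOf.1 h3) hqB
    simpa [Subgroup.mem_subgroupOf] using h2
  have hyB : y ∈ B := (memB y).2 ⟨hQ'.mem, hzy.symm⟩
  obtain ⟨p, hp, hpB, hpx⟩ := hQ'.toSettingAt.exists_centralizing B (inf_le_left) hyB hx hxB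
  have hact : ∀ q ∈ Q', z * q * z⁻¹ = p * q * p⁻¹ := by
    intro q hq
    by_cases hqB : q ∈ B
    · have h1 := ((memB q).1 hqB).2
      have h2 := hpB q hqB
      have h3 : z * q * z⁻¹ = q := by rw [← h1]; group
      have h4 : p * q * p⁻¹ = q := by rw [h2]; group
      rw [h3, h4]
    · have hb := hcoset q hq hqB
      have h1 := ((memB _).1 hb).2
      have h2 := hpB _ hb
      have hxq : q = x * (x⁻¹ * q) := by group
      rw [hxq]
      set b := x⁻¹ * q
      have hbz : z * b * z⁻¹ = b := by rw [← h1]; group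
      have hbp : p * b * p⁻¹ = b := by rw [h2]; group
      have hzx : z * x * z⁻¹ = y * x := by
        calc z * x * z⁻¹ = (z * x * z⁻¹ * x⁻¹) * x := by group
          _ = y * x := by rw [hxz]
      calc z * (x * b) * z⁻¹ = (z * x * z⁻¹) * (z * b * z⁻¹) := by group
        _ = y * x * b := by rw [hzx, hbz]
        _ = (p * x * p⁻¹) * (p * b * p⁻¹) := by rw [hpx, hbp]
        _ = p * (x * b) * p⁻¹ := by group
  have hcent : (p⁻¹ * z) = 1 ∨ (p⁻¹ * z) = y := by
    apply hQ'.cent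
    intro a ha
    have h1 := hact a ha
    calc p⁻¹ * z * a = p⁻¹ * (z * a * z⁻¹) * z := by group
      _ = p⁻¹ * (p * a * p⁻¹) * z := by rw [h1]
      _ = a * (p⁻¹ * z) := by group
  rcases hcent with h1 | h1
  · have : z = p := by
      have h2 : p * (p⁻¹ * z) = p * 1 := by rw [h1]
      simpa using h2
    rw [this]; exact hp
  · have : z = p * y := by
      have h2 : p * (p⁻¹ * z) = p * y := by rw [h1]
      simpa using h2
    rw [this]; exact mul_mem hp hQ'.mem

end pair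

end Cfsg.Agent.Lib.LargeExtra.Pair
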